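import Groth.Prelude.Def_VecGrp
import Groth.Prelude.Def_W4bk4grossh111Obs
import Mathlib.AlgebraicGeometry.Morphisms.Affine

/-!
# Functor of points of affine schemes over a field through values of global functions
-/

set_option autoImplicit false

universe u

noncomputable section

open CategoryTheory MonoidalCategory CartesianMonoidalCategory MonObj GrpObj AlgebraicGeometry
  Limits
open scoped TensorProduct

namespace Groth.Agent.AGFPoints.Basic

variable {k : Type u} [Field k] {X Y : Over (Spec (CommRingCat.of k))}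
variable {B B' : Type u} [CommRing B] [Algebra k B] [CommRing B'] [Algebra k B']

/-- The value of global functions at a point. -/
def val (t : VecGrp.pt k B ⟶ X) : Γ(X.left, ⊤) →+* B :=
  (t.left.appTop ≫ (Scheme.ΓSpecIso (CommRingCat.of B)).hom).hom

theorem val_comp (t : VecGrp.pt k B ⟶ X) (q : X ⟶ Y) (f : Γ(Y.left, ⊤)) :
    val (t ≫ q) f = val t (q.left.appTop f) := rfl

theorem val_ptMap (φ : B →ₐ[k] B') (t : VecGrp.pt k B ⟶ X) (f : Γ(X.left, ⊤)) :
    val (VecGrp.ptMap φ ≫ t) f = φ (val t f) := by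
  change (Scheme.ΓSpecIso (CommRingCat.of B')).hom
    ((Spec.map (CommRingCat.ofHom φ.toRingHom)).appTop (t.left.appTop f)) = _
  have h := Scheme.ΓSpecIso_naturality (CommRingCat.ofHom φ.toRingHom)
  exact congr($h (t.left.appTop f))

theorem val_hom (t : VecGrp.pt k B ⟶ X) (c : k) :
    val t (X.hom.appTop ((Scheme.ΓSpecIso (CommRingCat.of k)).inv c)) = algebraMap k B c := by
  change (Scheme.ΓSpecIso (CommRingCat.of B)).hom
    ((t.left ≫ X.hom).appTop ((Scheme.ΓSpecIso (CommRingCat.of k)).inv c)) = _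
  rw [Over.w t]
  have h := Scheme.ΓSpecIso_naturality (CommRingCat.ofHom (algebraMap k B))
  refine (congr($h ((Scheme.ΓSpecIso (CommRingCat.of k)).inv c))).trans ?_
  exact congrArg (algebraMap k B) (Iso.inv_hom_id_apply (Scheme.ΓSpecIso (CommRingCat.of k)) c)

variable (X) in
/-- The algebra of global functions. -/
def Coord : Type u := Γ(X.left, ⊤)

instance : CommRing (Coord X) := inferInstanceAs (CommRing Γ(X.left, ⊤))

instance : Algebra k (Coord X) :=
  (((Scheme.ΓSpecIso (CommRingCat.of k)).inv ≫ X.hom.appTop).hom : k →+* Γ(X.left, ⊤)).toAlgebra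

/-- A point as an algebra map out of the coordinate algebra. -/
def valHom (t : VecGrp.pt k B ⟶ X) : Coord X →ₐ[k] B :=
  { val t with commutes' := fun c => val_hom t c }

@[simp] theorem valHom_apply (t : VecGrp.pt k B ⟶ X) (f : Γ(X.left, ⊤)) : valHom t f = val t f := rfl

variable (X) in
/-- The universal point of an affine scheme. -/
def uPt [IsAffine X.left] : VecGrp.pt k (Coord X) ⟶ X :=
  Over.homMk X.left.isoSpec.inv (by
    change X.left.isoSpec.inv ≫ X.hom =
      Spec.map (CommRingCat.ofHom (algebraMap k (Coord X)))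
    have e : X.hom = X.left.isoSpec.hom ≫ Spec.map X.hom.appTop ≫ (Spec (CommRingCat.of k)).isoSpec.inv := by
      rw [← Category.assoc, Scheme.isoSpec_hom_naturality, Category.assoc, Iso.hom_inv_id,
        Category.comp_id]
    conv_lhs => rw [e, Iso.inv_hom_id_assoc, Scheme.isoSpec_Spec_inv, ← Spec.map_comp]
    rfl)

theorem val_uPt [IsAffine X.left] (f : Γ(X.left, ⊤)) : (val (uPt X) f : Coord X) = f := by
  have h : X.left.toSpecΓ.appTop = (Scheme.ΓSpecIso Γ(X.left, ⊤)).hom := Scheme.toSpecΓ_appTop _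
  have h2 : X.left.isoSpec.inv.appTop ≫ X.left.isoSpec.hom.appTop = 𝟙 _ := by
    rw [← Scheme.Hom.comp_appTop, Iso.hom_inv_id]; rfl
  have h3 : X.left.isoSpec.inv.appTop ≫ (Scheme.ΓSpecIso Γ(X.left, ⊤)).hom = 𝟙 _ := by
    rw [← h]; exact h2
  exact congr($h3 f)

theorem pt_ext [IsAffine X.left] {t t' : VecGrp.pt k B ⟶ X} (h : ∀ f, val t f = val t' f) :
    t = t' := by
  refine Over.OverMorphism.ext (ext_of_isAffine ?_)
  ext f
  exact (Scheme.ΓSpecIso (CommRingCat.of B)).commRingCatIsoToRingEquiv.injective (h f)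

theorem eq_ptMap_uPt [IsAffine X.left] (t : VecGrp.pt k B ⟶ X) :
    t = VecGrp.ptMap (valHom t) ≫ uPt X := by
  refine pt_ext fun f => ?_
  rw [val_ptMap]
  exact (congrArg (valHom t) (val_uPt f)).symm

theorem fn_ext [IsAffine X.left] {f g : Γ(X.left, ⊤)}
    (h : ∀ (B : Type u) [CommRing B] [Algebra k B] (t : VecGrp.pt k B ⟶ X), val t f = val t g) :
    f = g := by
  rw [← val_uPt f, ← val_uPt g]
  exact h (Coord X) (uPt X)

theorem isAffine_tensor [IsAffine X.left] [IsAffine Y.left] : IsAffine (X ⊗ Y).left :=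
  inferInstanceAs (IsAffine (pullback X.hom Y.hom))

section Group

variable {G T : Over (Spec (CommRingCat.of k))} [GrpObj G]

theorem isRTransInv_iff [IsAffine G.left] [IsAffine T.left] (g : T ⟶ G) (f : Γ(G.left, ⊤)) :
    AGF.IsRTransInv g f ↔ ∀ (B : Type u) [CommRing B] [Algebra k B] (x : VecGrp.pt k B ⟶ G)
      (t : VecGrp.pt k B ⟶ T), val (x * (t ≫ g)) f = val x f := by
  have key : ∀ {B : Type u} [CommRing B] [Algebra k B] (z : VecGrp.pt k B ⟶ G ⊗ T),
      val ((z ≫ fst G T) * (z ≫ snd G T ≫ g)) f = val z (((G ◁ g) ≫ μ[G]).left.appTop f) ∧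
      val (z ≫ fst G T) f = val z ((fst G T).left.appTop f) := by
    intro B _ _ z
    refine ⟨?_, rfl⟩
    rw [← val_comp]
    congr 2
    rw [Hom.mul_def, ← Category.assoc, ← Category.assoc]
    congr 1
    apply CartesianMonoidalCategory.hom_ext <;> simp
  constructor
  · intro h B _ _ x t
    obtain ⟨h1, h2⟩ := key (lift x t)
    rw [lift_fst, lift_snd_assoc] at h1
    rw [lift_fst] at h2
    rw [h1, h2]
    exact congrArg _ h
  · intro h
    have := isAffine_tensor (X := G) (Y := T)
    refine fn_ext fun B _ _ z => ?_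
    obtain ⟨h1, h2⟩ := key z
    rw [← h1, ← h2]
    simpa [Category.assoc] using h B (z ≫ fst G T) (z ≫ snd G T)

end Group

end Groth.Agent.AGFPoints.Basic
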